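import Cfsg.Agent.Lib.QuadPair.Trip

/-! Existence of opposite partners and the commutator case for root groups of a quadratic pair. -/

set_option autoImplicit false
set_option linter.unusedSimpArgs false

namespace Cfsg.Lib.QuadPair
open Cfsg.Lib.Transfer Cfsg.Lib.Root Module LinearMap Polynomial
open scoped Cfsg.Lib.Transfer commutatorElement MatrixGroups

variable {k : Type*} [Field k] {M : Type*} [AddCommGroup M] [Module k M]
variable {G : Subgroup (End k M)ˣ} {α β δ ε ξ η x y : End k M}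

variable (G) in
/-- non-trivial normal subgroups of `G` have no non-zero fixed vector. -/
def HypI : Prop := ∀ N : Subgroup (End k M)ˣ, N ≤ G → (∀ g ∈ G, ∀ n ∈ N, g * n * g⁻¹ ∈ N) → fixedSubmodule N ≠ ⊥ → N = ⊥

lemma mem_fixed {N : Subgroup (End k M)ˣ} {m : M} : m ∈ fixedSubmodule N ↔ ∀ g ∈ N, (g : End k M) m = m := by
  simp [fixedSubmodule, sub_eq_zero]

lemma hypI_of_irr (h : IsIrreducibleFor G) : HypI G := by
  intro N _ hn hf
  rcases h.2 (fixedSubmodule N) (fun g hg w hw => mem_fixed.2 fun n hn' => by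
    have := mem_fixed.1 hw _ (hn g⁻¹ (inv_mem hg) n hn')
    rw [inv_inv, Units.val_mul, Units.val_mul, End.mul_apply, End.mul_apply] at this
    conv_rhs => rw [← this, ← End.mul_apply (g : End k M), g.mul_inv]
    rfl) with e | e
  · exact absurd e hf
  · rw [eq_bot_iff]
    intro n hn
    exact Units.ext (LinearMap.ext fun m => mem_fixed.1 (e ▸ Submodule.mem_top (x := m)) n hn)

lemma Uni.fixed_ne_bot {N : Subgroup (End k M)ˣ} (h : Uni k N) (h0 : N ≠ ⊥) : fixedSubmodule N ≠ ⊥ := by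
  intro hf
  obtain ⟨n, hn⟩ := h.nil
  have key : ∀ j : ℕ, aug k N ^ (j + 1) = ⊥ → aug k N ^ j = ⊥ := by
    intro j hj
    rw [eq_bot_iff]
    intro x hx
    rw [Submodule.mem_bot, ← range_eq_bot, eq_bot_iff, ← hf, le_fixed_iff]
    intro g hg
    have := Submodule.mul_mem_mul (sub_one_mem_aug (k := k) hg) hx
    rw [← pow_succ', hj] at this
    exact mul_eq_zero_iff.1 this
  have key2 : ∀ j : ℕ, aug k N ^ j = ⊥ → aug k N ^ 0 = ⊥ := by
    intro j
    induction j with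
    | zero => exact id
    | succ j ih => exact fun h => ih (key j h)
  have h1 : (1 : End k M) ∈ aug k N ^ 0 := by simpa using (Submodule.one_le (R := k) (A := End k M)).1 le_rfl
  rw [key2 n hn, Submodule.mem_bot] at h1
  have := subsingleton_of_zero_eq_one h1.symm
  exact h0 (eq_bot_iff.2 fun g _ => Units.ext (Subsingleton.elim _ _))

lemma HypI.eq_bot_of_uni (hI : HypI G) {N : Subgroup (End k M)ˣ} (hle : N ≤ G) (hn : ∀ g ∈ G, ∀ n ∈ N, g * n * g⁻¹ ∈ N)
    (h : Uni k N) : N = ⊥ := by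
  by_contra h0
  exact h0 (hI N hle hn (h.fixed_ne_bot h0))

lemma iSup_conj_mem {Γ : Type*} [Group Γ] {W : Set (Subgroup Γ)} {g : Γ} (h : ∀ A ∈ W, g ⋆ A ∈ W) {n : Γ}
    (hn : n ∈ ⨆ A ∈ W, A) : g * n * g⁻¹ ∈ ⨆ A ∈ W, A := by
  have key : (⨆ C ∈ W, C) ≤ (⨆ C ∈ W, C).comap (MulAut.conj g).toMonoidHom := by
    refine iSup₂_le fun C hC => ?_
    rw [← Subgroup.map_le_iff_le_comap]
    exact le_iSup₂_of_le (f := fun A (_ : A ∈ W) => A) (g ⋆ C) (h C hC) le_rfl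
  exact key hn

variable [FiniteDimensional k M]

lemma HypI.family (hI : HypI G) {W : Set (Subgroup (End k M)ˣ)} (hle : ∀ A ∈ W, A ≤ G)
    (hconj : ∀ A ∈ W, ∀ g ∈ G, g ⋆ A ∈ W) (hpair : ∀ A ∈ W, ∀ B ∈ W, Uni k (A ⊔ B)) {A : Subgroup (End k M)ˣ}
    (hA : A ∈ W) : A = ⊥ := by
  have := hI.eq_bot_of_uni (N := ⨆ A ∈ W, A) (iSup₂_le hle) (fun g hg n hn => iSup_conj_mem (fun A hA => hconj A hA g hg) hn)
    (uni_iSup (fun A hA a ha B hB => hconj B hB a (hle A hA ha)) hpair)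
  exact le_bot_iff.1 (this ▸ le_iSup₂_of_le (f := fun A (_ : A ∈ W) => A) A hA le_rfl)

omit [FiniteDimensional k M] in
lemma Qd.RG_ne_bot (hα : Qd G α) : RG G α ≠ ⊥ := fun e =>
  un_ne_one hα.sq hα.ne (Subgroup.mem_bot.1 (e ▸ un_mem_RG hα.toQ0.mem_RS))

lemma exists_opp (hk : Big k) (hI : HypI G) (hα : Qd G α) : ∃ β, Qd G β ∧ α * β * α ≠ 0 := by
  by_contra hc
  push Not at hc
  refine hα.RG_ne_bot (hI.family (W := {A | ∃ α, Qd G α ∧ (∀ β, Qd G β → α * β * α = 0) ∧ A = RG G α}) ?_ ?_ ?_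
    ⟨α, hα, hc, rfl⟩)
  · rintro _ ⟨α, -, -, rfl⟩; exact RG_le
  · rintro _ ⟨α, hα, h, rfl⟩ g hg
    refine ⟨cj g α, hα.conj hg, fun β hβ => ?_, conj_RG hg⟩
    rw [← cj_cj_inv g β, ← cj_mul, ← cj_mul, h _ (hβ.conj (inv_mem hg)), cj_zero]
  · rintro _ ⟨α, hα, h, rfl⟩ _ ⟨β, hβ, -, rfl⟩
    exact uni_of_nil hk hα hβ (h β hβ)

lemma exists_trip' (hk : Big k) (hI : HypI G) (hα : Qd G α) : ∃ β, Qd G β ∧ Trip α β := by
  obtain ⟨β, hβ, h⟩ := exists_opp hk hI hα
  obtain ⟨η, hη, h0, ht⟩ := exists_trip hk hα hβ h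
  exact ⟨η, hβ.of_mem hη h0, ht⟩

lemma finrank_RS_cj {g : (End k M)ˣ} (hg : g ∈ G) : finrank k (RS G (cj g α)) = finrank k (RS G α) := by
  have key : ∀ g ∈ G, ∀ α : End k M, finrank k (RS G α) ≤ finrank k (RS G (cj g α)) := by
    intro g hg α
    let f : RS G α →ₗ[k] RS G (cj g α) :=
      { toFun := fun ξ => ⟨cj g ξ, RS_cj ξ.2 hg⟩
        map_add' := fun a b => Subtype.ext (cj_add g _ _)
        map_smul' := fun c a => Subtype.ext (cj_smul g c _) }
    refine LinearMap.finrank_le_finrank_of_injective (f := f) ((injective_iff_map_eq_zero f).2 fun a ha => ?_)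
    exact Subtype.ext (cj_eq_zero.1 (congrArg Subtype.val ha))
  refine le_antisymm ?_ (key g hg α)
  conv_rhs => rw [← cj_inv_cj g α]
  exact key _ (inv_mem hg) _

section CommMap
variable (hk : Big k) (hα : Qd G α) (hβ : Qd G β) (h1 : α * β * α = 0) (h0 : α * β - β * α ≠ 0)

/-- the map `ξ ↦ [ξ, β]`. -/
def commMap : RS G α →ₗ[k] RS G (α * β - β * α) where
  toFun ξ := ⟨ξ * β - β * ξ, comm_mem hk hα hβ h1 h0 ξ.2 hβ.toQ0.mem_RS⟩
  map_add' a b := Subtype.ext (by simp [add_mul, mul_add]; abel)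
  map_smul' c a := Subtype.ext (by simp [smul_sub])

lemma commMap_inj : Function.Injective (commMap hk hα hβ h1 h0) :=
  (injective_iff_map_eq_zero _).2 fun a ha => by
    by_contra hne
    exact comm_ne hk hα hβ h1 h0 a.2 hβ.toQ0.mem_RS (fun e => hne (Subtype.ext e)) hβ.ne (congrArg Subtype.val ha)

include hk hα hβ h1 h0 in
lemma finrank_le_comm : finrank k (RS G α) ≤ finrank k (RS G (α * β - β * α)) :=
  LinearMap.finrank_le_finrank_of_injective (commMap_inj hk hα hβ h1 h0)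

include hk hα hβ h1 h0 in
lemma comm_surj_of_le (hle : finrank k (RS G (α * β - β * α)) ≤ finrank k (RS G α)) (hη : η ∈ RS G (α * β - β * α)) :
    ∃ ξ ∈ RS G α, ξ * β - β * ξ = η := by
  obtain ⟨ξ, e⟩ := (LinearMap.injective_iff_surjective_of_finrank_eq_finrank
    (le_antisymm (finrank_le_comm hk hα hβ h1 h0) hle)).1 (commMap_inj hk hα hβ h1 h0) ⟨η, hη⟩
  exact ⟨ξ, ξ.2, congrArg Subtype.val e⟩

end CommMap

/-- an element of "positive degree" with respect to the triple `(δ, ε)`. -/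
structure Pos (δ ε α : End k M) : Prop where
  l : δ * α = 0
  r : α * δ = 0
  m : (1 - (δ * ε + ε * δ)) * α * (1 - (δ * ε + ε * δ)) = 0

omit [FiniteDimensional k M] in
lemma Pos.of_neg (h : Pos (-δ) (-ε) α) : Pos δ ε α := ⟨by simpa using h.l, by simpa using h.r, by simpa using h.m⟩

omit [FiniteDimensional k M] in
lemma Trip.neg (h : Trip δ ε) : Trip (-δ) (-ε) :=
  ⟨by simpa using h.aa, by simpa using h.bb, by simpa using h.aba, by simpa using h.bab⟩

/-- the degree two component. -/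
def top2 (δ ε α : End k M) : End k M := δ * ε * α * (ε * δ)

section Grading
variable (ht : Trip δ ε) (hp : Pos δ ε α)
include ht hp

omit [FiniteDimensional k M] in
lemma Pos.rules : (∀ x, δ * (δ * x) = 0) ∧ (∀ x, ε * (ε * x) = 0) ∧ (∀ x, δ * (ε * (δ * x)) = δ * x) ∧
    (∀ x, ε * (δ * (ε * x)) = ε * x) ∧ δ * (ε * δ) = δ ∧ ε * (δ * ε) = ε ∧ (∀ x, δ * (α * x) = 0) ∧
    (∀ x, α * (δ * x) = 0) ∧ α = δ * (ε * α) + α * (ε * δ) - δ * (ε * (α * (ε * δ))) := by
  refine ⟨fun x => by rw [← mul_assoc, ht.aa, zero_mul], fun x => by rw [← mul_assoc, ht.bb, zero_mul],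
    fun x => by rw [← mul_assoc, ← mul_assoc, ht.aba], fun x => by rw [← mul_assoc, ← mul_assoc, ht.bab],
    by rw [← mul_assoc, ht.aba], by rw [← mul_assoc, ht.bab], fun x => by rw [← mul_assoc, hp.l, zero_mul],
    fun x => by rw [← mul_assoc, hp.r, zero_mul], ?_⟩
  have := hp.m
  have a1 : ∀ x, α * (δ * x) = 0 := fun x => by rw [← mul_assoc, hp.r, zero_mul]
  simp only [mul_add, add_mul, mul_sub, sub_mul, mul_one, one_mul, mul_assoc, hp.l, a1, mul_zero, zero_add, add_zero,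
    sub_zero] at this
  rw [← sub_eq_zero, ← this]; abel

omit [FiniteDimensional k M] in
lemma top2_mem (hk : Big k) (hδ : Q0 G δ) (hε : Q0 G ε) (hα : Q0 G α) : top2 δ ε α ∈ RS G δ := by
  obtain ⟨a1, a2, a3, a4, a5, a6, a7, a8, a9⟩ := hp.rules ht
  have hi := repK_mem_G ht hδ hε (-1)
  have hv : (((repK ht (-1))⁻¹ : (End k M)ˣ) : End k M) = 1 - 2 * (δ * ε + ε * δ) := by
    rw [← map_inv, ← repK_neg_one ht]; simp
  have hc := hα.conj hi
  rw [cj, hv, repK_neg_one] at hc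
  have e : (1 - 2 * (δ * ε + ε * δ)) * α * (1 - 2 * (δ * ε + ε * δ)) = (2 : k) • top2 δ ε α - α := by
    rw [two_smul, two_mul, top2]
    simp only [mul_add, add_mul, mul_sub, sub_mul, mul_one, one_mul, mul_assoc, hp.l, a8, mul_zero, zero_add, add_zero]
    linear_combination (norm := abel) (2 : ℕ) • a9
  rw [e] at hc
  have b1 : α * top2 δ ε α = 0 := by simp only [top2, mul_assoc, a8]
  have b2 : top2 δ ε α * α = 0 := by simp only [top2, mul_assoc, hp.l, mul_zero]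
  have h2 := (hα.add hc (by simp [mul_sub, b1, hα.sq]) (by simp [sub_mul, b2, hα.sq])).smul (2 : k)⁻¹
  rw [add_sub_cancel, smul_smul, inv_mul_cancel₀ hk.two, one_smul] at h2
  refine mem_RS ht.aa h2 ?_ ?_
  · rw [top2, mul_assoc, mul_assoc]; exact range_mul_le _ _
  · rw [top2, ← mul_assoc]; exact ker_le_mul _ _

lemma rk_low_le : rk (α - top2 δ ε α) ≤ rk α := by
  obtain ⟨a1, a2, a3, a4, a5, a6, a7, a8, a9⟩ := hp.rules ht
  have e : α - top2 δ ε α = (1 - δ * ε) * α * (ε * δ) - δ * (ε * (α * (ε * δ - 1))) := by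
    rw [top2]
    simp only [mul_sub, sub_mul, mul_one, one_mul, mul_assoc]
    linear_combination (norm := abel) a9
  have h1 := rk_mul_add (1 - δ * ε) α
  have h2 : rk ((1 - δ * ε) * α * (ε * δ)) ≤ rk ((1 - δ * ε) * α) := rk_mono (range_mul_le _ _)
  have h3 : rk (δ * (ε * (α * (ε * δ - 1)))) ≤ finrank k (range α ⊓ ker (1 - δ * ε) : Submodule k M) := by
    have : δ * (ε * (α * (ε * δ - 1))) = α * (ε * δ - 1) := by
      simp only [mul_sub, mul_one]
      linear_combination (norm := abel) a9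
    refine Submodule.finrank_mono (le_inf (by rw [this]; exact range_mul_le _ _) (mul_eq_zero_iff.1 ?_))
    rw [sub_mul, mul_assoc, a3]; simp
  have := rk_sub_le ((1 - δ * ε) * α * (ε * δ)) (δ * (ε * (α * (ε * δ - 1))))
  rw [e]; omega

lemma low_qd (hk : Big k) (hδ : Qd G δ) (hε : Q0 G ε) (hα : Qd G α) (h0 : α - top2 δ ε α ≠ 0) : Qd G (α - top2 δ ε α) := by
  obtain ⟨a1, a2, a3, a4, a5, a6, a7, a8, a9⟩ := hp.rules ht
  have b1 : α * top2 δ ε α = 0 := by simp only [top2, mul_assoc, a8]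
  have b2 : top2 δ ε α * α = 0 := by simp only [top2, mul_assoc, hp.l, mul_zero]
  have := hα.toQ0.add (RS_q0 (top2_mem ht hp hk hδ.toQ0 hε hα.toQ0)).neg (by simp [b1]) (by simp [b2])
  rw [← sub_eq_add_neg] at this
  exact hα.of_rk_le this h0 (rk_low_le ht hp)

lemma finrank_le_low (hk : Big k) (hδ : Qd G δ) (hε : Q0 G ε) (hα : Qd G α) (h0 : α - top2 δ ε α ≠ 0) :
    finrank k (RS G δ) ≤ finrank k (RS G (α - top2 δ ε α)) := by
  obtain ⟨a1, a2, a3, a4, a5, a6, a7, a8, a9⟩ := hp.rules ht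
  have hl := low_qd ht hp hk hδ hε hα h0
  have hw := repK_mem_G ht hδ.toQ0 hε (mk2 0 1 (-1) 0 (by simp))
  have hφ := hl.conj hw
  have v1 : (repK ht (mk2 0 1 (-1) 0 (by simp)) : End k M) = 1 - (δ * ε + ε * δ) + δ - ε := by
    refine (repSL_val ht _ _ _ _).trans ?_
    simp [sub_eq_add_neg]
  have v2 : (((repK ht (mk2 0 1 (-1) 0 (by simp)))⁻¹ : (End k M)ˣ) : End k M) = 1 - (δ * ε + ε * δ) - δ + ε := by
    rw [← map_inv]
    refine (repSL_val ht _ _ _ _).trans ?_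
    simp [sub_eq_add_neg]
  rw [cj, v1, v2] at hφ
  set φ := (1 - (δ * ε + ε * δ) + δ - ε) * (α - top2 δ ε α) * (1 - (δ * ε + ε * δ) - δ + ε) with hφd
  have e1 : δ * φ = δ * (ε * (α * (ε * δ))) - δ * (ε * α) := by
    rw [hφd, top2]
    simp only [mul_add, add_mul, mul_sub, sub_mul, mul_one, one_mul, mul_assoc, hp.l, hp.r, a1, a2, a3, a4, a5, a6, a7, a8,
      ht.aa, ht.bb, mul_zero, zero_add, add_zero]
    abel
  have e2 : φ * δ = α * (ε * δ) - δ * (ε * (α * (ε * δ))) := by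
    rw [hφd, top2]
    simp only [mul_add, add_mul, mul_sub, sub_mul, mul_one, one_mul, mul_assoc, hp.l, hp.r, a1, a2, a3, a4, a5, a6, a7, a8,
      ht.aa, ht.bb, mul_zero, zero_add, add_zero]
    abel
  have e3 : δ * φ - φ * δ = -(α - top2 δ ε α) := by
    rw [e1, e2, top2]
    simp only [mul_assoc]
    linear_combination (norm := abel) a9
  have := finrank_le_comm hk hδ hφ (by
    rw [e1]; simp only [sub_mul, mul_assoc, ht.aa, hp.r, mul_zero, sub_zero]) (by rw [e3]; exact neg_ne_zero.2 h0)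
  rwa [e3, hl.RS_neg] at this

end Grading

section Main
variable (hk : Big k) (hI : HypI G) (hα : Qd G α) (hβ : Qd G β) (h1 : α * β * α = 0) (h0 : α * β - β * α ≠ 0)

include hk hα hβ h1 h0 in
lemma map_ker_comm (hξ : ξ ∈ RS G α) {m : M} (hm : m ∈ ker (α * β - β * α)) : ξ m ∈ range (α * β - β * α) := by
  have h2 := nil_symm hk hα hβ h1
  obtain ⟨-, a1, -, a3, -⟩ := comm_struct hα hβ h1 h2 h0
  obtain ⟨_, ⟨n, rfl⟩, w, hw, rfl⟩ := Submodule.mem_sup.1 ((ker_comm_le hα hβ h1 h2 h0).1 hm)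
  rw [map_add, mem_ker.1 (RS_ker hξ hw), add_zero, a3, a1]
  refine Submodule.mem_sup_left ⟨RS_range hξ ⟨_, rfl⟩, ?_⟩
  have := nil_all hk hβ hα h2 hβ.toQ0.mem_RS hβ.toQ0.mem_RS hξ
  exact congrArg (fun f : End k M => f n) this

include hk hα hβ h1 in
lemma comm_mul_left (hξ : ξ ∈ RS G α) : (α * β - β * α) * ξ = 0 := by
  rw [sub_mul, nil_all hk hα hβ h1 hα.toQ0.mem_RS hξ hβ.toQ0.mem_RS, mul_assoc, RS_mul hα.toQ0.mem_RS hξ]; simp

include hk hα hβ h1 in
lemma comm_mul_right (hξ : ξ ∈ RS G α) : ξ * (α * β - β * α) = 0 := by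
  rw [mul_sub, ← mul_assoc, ← mul_assoc, nil_all hk hα hβ h1 hξ hα.toQ0.mem_RS hβ.toQ0.mem_RS,
    RS_mul hξ hα.toQ0.mem_RS]; simp

include hk hα hβ h1 h0 in
lemma pos_of_comm (ht : Trip (α * β - β * α) ε) : Pos (α * β - β * α) ε α := by
  refine ⟨comm_mul_left hk hα hβ h1 hα.toQ0.mem_RS, comm_mul_right hk hα hβ h1 hα.toQ0.mem_RS, ?_⟩
  ext m
  have := map_ker_comm hk hα hβ h1 h0 hα.toQ0.mem_RS (m := (1 - ((α * β - β * α) * ε + ε * (α * β - β * α))) m) (by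
    rw [mem_ker, ← End.mul_apply, mul_sub, ht.gam_right]; simp)
  rw [End.mul_apply, End.mul_apply, LinearMap.sub_apply, ht.gam_apply_range (Submodule.mem_sup_left this)]
  simp

include hk hI hα hβ h1 h0 in
theorem finrank_comm_le : finrank k (RS G (α * β - β * α)) ≤ finrank k (RS G α) := by
  have h2 := nil_symm hk hα hβ h1
  have h0' : β * α - α * β ≠ 0 := fun e => h0 (by rw [← neg_sub, e, neg_zero])
  obtain ⟨hδ, -⟩ := comm_struct hα hβ h1 h2 h0
  obtain ⟨ε, hε, ht⟩ := exists_trip' hk hI hδ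
  have pα := pos_of_comm hk hα hβ h1 h0 ht
  have pβ : Pos (α * β - β * α) ε β := by
    have := pos_of_comm hk hβ hα h2 h0' (ε := -ε) (by rw [← neg_sub]; exact ht.neg)
    rw [← neg_sub] at this
    exact this.of_neg
  have mα := top2_mem ht pα hk hδ.toQ0 hε.toQ0 hα.toQ0
  have mβ := top2_mem ht pβ hk hδ.toQ0 hε.toQ0 hβ.toQ0
  set δ := α * β - β * α with hδd
  set a := top2 δ ε α
  set b := top2 δ ε β
  have c1 : a * β = 0 := RS_right mα pβ.l
  have c2 : β * a = 0 := RS_left mα pβ.r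
  have c3 : b * α = 0 := RS_right mβ pα.l
  have c4 : α * b = 0 := RS_left mβ pα.r
  have c5 : a * b = 0 := RS_mul mα mβ
  have c6 : b * a = 0 := RS_mul mβ mα
  have c7 : a * α = 0 := RS_right mα pα.l
  have d1 : (α - a) * (β - b) = α * β := by simp [sub_mul, mul_sub, c1, c4, c5]
  have d2 : (β - b) * (α - a) = β * α := by simp [sub_mul, mul_sub, c2, c3, c6]
  have n1 : α - a ≠ 0 := fun e => h0 (by rw [hδd, ← d1, ← d2, e]; simp)
  have n2 : β - b ≠ 0 := fun e => h0 (by rw [hδd, ← d1, ← d2, e]; simp)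
  have q1 := low_qd ht pα hk hδ hε.toQ0 hα n1
  have q2 := low_qd ht pβ hk hδ hε.toQ0 hβ n2
  have r : RS G ((β - b) * (α - a) - (α - a) * (β - b)) = RS G δ := by rw [d1, d2, ← neg_sub, hδ.RS_neg]
  have z : (β - b) * (α - a) * (β - b) = 0 := by rw [d2, mul_sub, h2, mul_assoc, c4]; simp
  obtain ⟨ξ, hξ, e⟩ := comm_surj_of_le hk q2 q1 z (by rw [d1, d2]; exact h0')
    (by rw [r]; exact finrank_le_low ht pβ hk hδ hε.toQ0 hβ n2) (η := a) (by rw [r]; exact mα)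
  have : cj (un hξ.1.sq) (α - a) = α := by
    rw [cj_of_eq (α := ξ) (by simp) hξ.1.sq, nil_all hk q2 q1 z hξ hξ q1.toQ0.mem_RS, sub_zero, add_sub_assoc, e]; simp
  rw [← this, finrank_RS_cj hξ.1.un_mem]
  exact finrank_le_low ht pα hk hδ hε.toQ0 hα n1

include hk hI hα hβ h1 h0 in
theorem cc_of_nil : CC (RG G α) (RG G β) (RG G (α * β - β * α)) := by
  have h2 := nil_symm hk hα hβ h1
  have h0' : β * α - α * β ≠ 0 := fun e => h0 (by rw [← neg_sub, e, neg_zero])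
  obtain ⟨hδ, -⟩ := comm_struct hα hβ h1 h2 h0
  have val : ∀ a ∈ RG G α, ∀ b ∈ RG G β, ((⁅a, b⁆ : (End k M)ˣ) : End k M) - 1 =
      ((a : End k M) - 1) * ((b : End k M) - 1) - ((b : End k M) - 1) * ((a : End k M) - 1) := fun a ha b hb =>
    commutator_val rfl rfl (RS_q0 ha).sq (RS_q0 hb).sq (nil_all hk hα hβ h1 ha ha hb) (nil_all hk hβ hα h2 hb hb ha)
  have left : ∀ b ∈ RG G β, b ≠ 1 → ∀ c ∈ RG G (α * β - β * α), ∃ a ∈ RG G α, ⁅a, b⁆ = c := by
    intro b hb hb1 c hc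
    have hb' := hβ.of_mem hb (sub_one_ne hb1)
    have n1 := nil_all hk hα hβ h1 hα.toQ0.mem_RS hα.toQ0.mem_RS hb
    have n2 := comm_ne hk hα hβ h1 h0 hα.toQ0.mem_RS hb hα.ne hb'.ne
    obtain ⟨ξ, hξ, e⟩ := comm_surj_of_le hk hα hb' n1 n2 (finrank_comm_le hk hI hα hb' n1 n2) (η := (c : End k M) - 1)
      (by rw [hδ.RS_eq (comm_mem hk hα hβ h1 h0 hα.toQ0.mem_RS hb) n2]; exact hc)
    refine ⟨_, un_mem_RG hξ, Units.ext ((sub_left_inj (a := 1)).1 ?_)⟩
    rw [val _ (un_mem_RG hξ) b hb, ← e]; simp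
  have right : ∀ a ∈ RG G α, a ≠ 1 → ∀ c ∈ RG G (α * β - β * α), ∃ b ∈ RG G β, ⁅a, b⁆ = c := by
    intro a ha ha1 c hc
    have ha' := hα.of_mem ha (sub_one_ne ha1)
    have n1 := nil_all hk hβ hα h2 hβ.toQ0.mem_RS hβ.toQ0.mem_RS ha
    have n2 := comm_ne hk hβ hα h2 h0' hβ.toQ0.mem_RS ha hβ.ne ha'.ne
    have n3 := comm_mem hk hβ hα h2 h0' hβ.toQ0.mem_RS ha
    rw [← neg_sub (α * β), hδ.RS_neg] at n3
    obtain ⟨ξ, hξ, e⟩ := comm_surj_of_le hk hβ ha' n1 n2 (finrank_comm_le hk hI hβ ha' n1 n2) (η := -((c : End k M) - 1))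
      (by rw [hδ.RS_eq n3 n2]; exact neg_mem hc)
    refine ⟨_, un_mem_RG hξ, Units.ext ((sub_left_inj (a := 1)).1 ?_)⟩
    rw [val a ha _ (un_mem_RG hξ), ← neg_inj, ← e]; simp
  refine ⟨le_antisymm (Subgroup.commutator_le.2 fun a ha b hb => ?_) fun c hc => ?_, hδ.RG_ne_bot, cm_RG_self, cm_RG_self,
    cm_RG_iff.2 fun ξ hξ η hη => ?_, cm_RG_iff.2 fun ξ hξ η hη => ?_, right, left⟩
  · rw [mem_RG, val a ha b hb]; exact comm_mem hk hα hβ h1 h0 ha hb
  · obtain ⟨a, ha, rfl⟩ := left _ (un_mem_RG hβ.toQ0.mem_RS) (un_ne_one _ hβ.ne) c hc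
    exact Subgroup.commutator_mem_commutator ha (un_mem_RG hβ.toQ0.mem_RS)
  · rw [RS_right hξ (comm_mul_left hk hα hβ h1 hη), RS_left hξ (comm_mul_right hk hα hβ h1 hη)]
  · rw [← hδ.RS_neg, neg_sub] at hξ
    rw [RS_right hξ (comm_mul_left hk hβ hα h2 hη), RS_left hξ (comm_mul_right hk hβ hα h2 hη)]

/-- elements fixing `V` and acting trivially on `W` modulo `V`. -/
def triSub (V W : Submodule k M) : Subgroup (End k M)ˣ where
  carrier := {g | (∀ m ∈ V, (g : End k M) m = m) ∧ ∀ m ∈ W, (g : End k M) m - m ∈ V}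
  one_mem' := by simp
  mul_mem' {g h} hg hh := ⟨fun m hm => by rw [Units.val_mul, End.mul_apply, hh.1 m hm, hg.1 m hm], fun m hm => by
    have := add_mem (hh.2 m hm) (hg.2 m hm)
    rw [← hg.1 _ (hh.2 m hm), map_sub] at this
    rw [Units.val_mul, End.mul_apply]
    convert this using 1; abel⟩
  inv_mem' {g} hg := by
    have key : ∀ m ∈ V, ((g⁻¹ : (End k M)ˣ) : End k M) m = m := fun m hm => by
      conv_lhs => rw [← hg.1 m hm, ← End.mul_apply, g.inv_mul]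
      rfl
    refine ⟨key, fun m hm => ?_⟩
    have := neg_mem (hg.2 m hm)
    rw [← key _ (hg.2 m hm), map_sub, ← End.mul_apply, g.inv_mul] at this
    simpa using this

include hk hI hα hβ h1 h0 in
theorem sup_subset_core : ((RG G α ⊔ RG G β : Subgroup (End k M)ˣ) : Set (End k M)ˣ) ⊆
    quadraticUnipotentCore G (RG G (α * β - β * α)) := by
  have h2 := nil_symm hk hα hβ h1
  have h0' : β * α - α * β ≠ 0 := fun e => h0 (by rw [← neg_sub, e, neg_zero])
  obtain ⟨hδ, -⟩ := comm_struct hα hβ h1 h2 h0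
  have hc := cc_of_nil hk hI hα hβ h1 h0
  intro g hg
  simp only [quadraticUnipotentCore, Set.mem_ofPred_eq, fixed_RG hδ.toQ0, comm_RG hδ.toQ0]
  have a1 : RG G α ⊔ RG G β ≤ commSub (ker (α * β - β * α)) := by
    refine sup_le (fun g hg => mul_eq_zero_iff.1 (comm_mul_left hk hα hβ h1 hg)) fun g hg => mul_eq_zero_iff.1 ?_
    rw [← neg_sub, neg_mul, comm_mul_left hk hβ hα h2 hg, neg_zero]
  have a2 : RG G α ⊔ RG G β ≤ triSub (range (α * β - β * α)) (ker (α * β - β * α)) := by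
    refine sup_le (fun g hg => ⟨fun m hm => ?_, fun m hm => map_ker_comm hk hα hβ h1 h0 hg hm⟩)
      fun g hg => ⟨fun m hm => ?_, fun m hm => ?_⟩
    · simpa [sub_eq_zero] using mul_eq_zero_iff.1 (comm_mul_right hk hα hβ h1 hg) hm
    · have : ((g : End k M) - 1) * (α * β - β * α) = 0 := by
        rw [← neg_sub (β * α), mul_neg, comm_mul_right hk hβ hα h2 hg, neg_zero]
      simpa [sub_eq_zero] using mul_eq_zero_iff.1 this hm
    · rw [← neg_sub, ker_neg] at hm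
      rw [← neg_sub (β * α), range_neg]
      exact map_ker_comm hk hβ hα h2 h0' hg hm
  exact ⟨sup_le RG_le RG_le hg, (hc.ca.symm.sup_left hc.cb.symm).le_normalizer hg, fun m => a1 hg ⟨m, rfl⟩, (a2 hg).2,
    (a2 hg).1⟩

end Main

theorem roots_tri (hk : Big k) (hI : HypI G) (hα : Qd G α) (hβ : Qd G β) :
    Cm (RG G α) (RG G β) ∨ IsRankOnePair (RG G α) (RG G β) ∨ ∃ δ, Qd G δ ∧ CC (RG G α) (RG G β) (RG G δ) := by
  by_cases h1 : α * β * α = 0
  · by_cases h0 : α * β - β * α = 0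
    · exact Or.inl (cm_of_comm hk hα hβ (sub_eq_zero.1 h0))
    · exact Or.inr (Or.inr ⟨_, (comm_struct hα hβ h1 (nil_symm hk hα hβ h1) h0).1, cc_of_nil hk hI hα hβ h1 h0⟩)
  · exact Or.inr (Or.inl (r1_of_opp hk hα hβ h1))

theorem r1_iff_opp (hk : Big k) (hI : HypI G) (hα : Qd G α) (hβ : Qd G β) :
    IsRankOnePair (RG G α) (RG G β) ↔ α * β * α ≠ 0 := by
  refine ⟨fun h h1 => ?_, r1_of_opp hk hα hβ⟩
  by_cases h0 : α * β - β * α = 0
  · exact r1_not_cm h (cm_of_comm hk hα hβ (sub_eq_zero.1 h0))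
  · exact (cc_of_nil hk hI hα hβ h1 h0).not_r1 h

end Cfsg.Lib.QuadPair
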