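import Cfsg.Agent.Lib.QuadPair.Case
import Cfsg.Agent.Lib.Root.LocalSet

/-! The root groups of a quadratic pair: components, quasisimplicity, finiteness. -/

set_option autoImplicit false

namespace Cfsg.Lib.QuadPair
open Cfsg.Lib.Transfer Cfsg.Lib.Root Module LinearMap Polynomial
open scoped Cfsg.Lib.Transfer commutatorElement MatrixGroups

variable {k : Type*} [Field k] {M : Type*} [AddCommGroup M] [Module k M]
variable {G : Subgroup (End k M)ˣ} {α β δ ε ξ η x y : End k M} {A B : Subgroup (End k M)ˣ}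

lemma Uni.conj (h : Uni k A) (g : (End k M)ˣ) : Uni k (g ⋆ A) := by
  obtain ⟨n, hn⟩ := uni_iff.1 h
  refine uni_iff.2 ⟨n, fun l hl e => ?_⟩
  have key : ∀ l : List (End k M)ˣ, (l.map fun x : (End k M)ˣ => (x : End k M) - 1).prod =
      cj g (((l.map fun x => g⁻¹ * x * g).map fun x : (End k M)ˣ => (x : End k M) - 1).prod) := by
    intro l
    induction l with
    | nil => simp [cj]
    | cons a l ih =>
      rw [List.map_cons, List.map_cons, List.map_cons, List.prod_cons, List.prod_cons, cj_mul, ← ih, cj_sub_one]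
      congr 3; group
  rw [key, hn _ _ (by simpa using e), cj_zero]
  intro x hx
  obtain ⟨y, hy, rfl⟩ := List.mem_map.1 hx
  obtain ⟨z, hz, rfl⟩ := hl y hy
  simpa [mul_assoc] using hz

lemma un_eq_commutator (hk : Big k) (h : Trip α β) : ∃ g₁ g₂ : SL(2, k), un h.aa = ⁅repK h g₁, repK h g₂⁆ := by
  obtain ⟨a, ha0, ha⟩ := hk.ex
  refine ⟨dR (Units.mk0 a ha0), xR (a ^ 2 - 1)⁻¹, ?_⟩
  have e : dR (Units.mk0 a ha0) * xR (a ^ 2 - 1)⁻¹ * (dR (Units.mk0 a ha0))⁻¹ = xR ((a ^ 2 - 1)⁻¹ * a ^ 2) :=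
    conj_xR_eq (by simp) (by simp)
  rw [← map_commutatorElement, commutatorElement_def, e, ← xR_neg, ← xR_add]
  have : (a ^ 2 - 1)⁻¹ * a ^ 2 + -(a ^ 2 - 1)⁻¹ = 1 := by
    have := sub_ne_zero.2 ha
    field_simp; ring
  rw [this]
  exact Units.ext ((sub_left_inj (a := 1)).1 (by rw [show (xR 1 : SL(2, k)) = xU 1 from rfl, repK_xU]; simp))

variable [FiniteDimensional k M] (hk : Big k) (hI : HypI G)
include hk hI

theorem lrs_roots : LRS (quadraticRootSubgroups G) := by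
  refine ⟨fun A hA => ?_, fun A hA a ha B hB => roots_conj hB (roots_le hA ha), fun A hA B hB => ?_, fun A hA => ?_⟩
  · obtain ⟨α, -, rfl⟩ := mem_roots_iff.1 hA
    exact cm_RG_self
  · obtain ⟨α, hα, rfl⟩ := mem_roots_iff.1 hA
    obtain ⟨β, hβ, rfl⟩ := mem_roots_iff.1 hB
    rcases roots_tri hk hI hα hβ with h | h | ⟨δ, hδ, h⟩
    · exact Or.inl h
    · exact Or.inr (Or.inl h)
    · exact Or.inr (Or.inr ⟨_, hδ.root, h⟩)
  · obtain ⟨α, hα, rfl⟩ := mem_roots_iff.1 hA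
    obtain ⟨β, hβ, h⟩ := exists_opp hk hI hα
    exact ⟨_, hβ.root, r1_of_opp hk hα hβ h⟩

theorem exists_psl2 (hA : A ∈ quadraticRootSubgroups G) (hB : B ∈ quadraticRootSubgroups G) (h : IsRankOnePair A B) :
    ∃ A₀ B₀ : Subgroup (End k M)ˣ, A₀ ≤ A ∧ B₀ ≤ B ∧ IsPSL2PairOver k A₀ B₀ := by
  obtain ⟨α, hα, rfl⟩ := mem_roots_iff.1 hA
  obtain ⟨β, hβ, rfl⟩ := mem_roots_iff.1 hB
  obtain ⟨η, hη, -, ht⟩ := exists_trip hk hα hβ ((r1_iff_opp hk hI hα hβ).1 h)
  exact ⟨_, _, repK_upper ht hα.toQ0.mem_RS, repK_lower ht hη, repK_psl2 ht hα.ne⟩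

theorem le_commutator_of_r1 (hA : A ∈ quadraticRootSubgroups G) (hB : B ∈ quadraticRootSubgroups G)
    (h : IsRankOnePair A B) : A ≤ ⁅A ⊔ B, A ⊔ B⁆ := by
  obtain ⟨α, hα, rfl⟩ := mem_roots_iff.1 hA
  obtain ⟨β, hβ, rfl⟩ := mem_roots_iff.1 hB
  intro a ha
  by_cases h1 : a = 1
  · rw [h1]; exact one_mem _
  have h0 := sub_one_ne h1
  obtain ⟨η, hη, -, ht⟩ := exists_trip hk (hα.of_mem ha h0) hβ
    (opp_all hk hα hβ ((r1_iff_opp hk hI hα hβ).1 h) ha hβ.toQ0.mem_RS h0 hβ.ne)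
  obtain ⟨g₁, g₂, e⟩ := un_eq_commutator hk ht
  rw [show a = un ht.aa from Units.ext (by simp), e]
  exact Subgroup.commutator_mem_commutator (repK_mem ht ha hη _) (repK_mem ht ha hη _)

omit hk hI in
variable (G) in
/-- elements preserving the commutation relation with conjugates. -/
def KK : Subgroup (End k M)ˣ where
  carrier := {g | g ∈ G ∧ ∀ A ∈ quadraticRootSubgroups G, ∀ B ∈ quadraticRootSubgroups G, Cm A B ↔ Cm (g ⋆ A) B}
  one_mem' := ⟨one_mem _, fun A _ B _ => by rw [conj_one]⟩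
  mul_mem' {g h} hg hh := ⟨mul_mem hg.1 hh.1, fun A hA B hB => by
    rw [← conj_conj, ← hg.2 _ (roots_conj hA hh.1) B hB, hh.2 A hA B hB]⟩
  inv_mem' {g} hg := ⟨inv_mem hg.1, fun A hA B hB => by
    rw [hg.2 _ (roots_conj hA (inv_mem hg.1)) B hB, conj_conj, mul_inv_cancel, conj_one]⟩

omit hk hI in
lemma KK_normal {x g : (End k M)ˣ} (hx : x ∈ G) (hg : g ∈ KK G) : x * g * x⁻¹ ∈ KK G :=
  ⟨mul_mem (mul_mem hx hg.1) (inv_mem hx), fun A hA B hB => by
    rw [← cm_conj_iff (g := x⁻¹), hg.2 _ (roots_conj hA (inv_mem hx)) _ (roots_conj hB (inv_mem hx)),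
      ← cm_conj_iff (g := x), conj_conj, conj_conj, conj_conj, mul_inv_cancel, conj_one]⟩

omit hk in
theorem KK_cm (hA : A ∈ quadraticRootSubgroups G) : Cm (KK G) A := by
  have hW : ∀ U : Subgroup (End k M)ˣ, U ≤ KK G → Uni k U → (∀ g ∈ KK G, ∀ u ∈ U, g * u * g⁻¹ ∈ U) → U = ⊥ := by
    intro U h1 h2 h3
    refine hI.family (W := {U | U ≤ KK G ∧ Uni k U ∧ ∀ g ∈ KK G, ∀ u ∈ U, g * u * g⁻¹ ∈ U}) (fun U hU g hg => (hU.1 hg).1)
      ?_ (fun U hU V hV => hU.2.1.sup hV.2.1 fun v hv => hU.2.2 v (hV.1 hv)) ⟨h1, h2, h3⟩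
    rintro U ⟨a, b, c⟩ x hx
    refine ⟨?_, b.conj x, ?_⟩
    · rintro _ ⟨u, hu, rfl⟩; exact KK_normal hx (a hu)
    · rintro g hg _ ⟨u, hu, rfl⟩
      exact ⟨_, c _ (KK_normal (inv_mem hx) hg) u hu, by simp [mul_assoc]⟩
  obtain ⟨α, hα, rfl⟩ := mem_roots_iff.1 hA
  set W : Set (Subgroup (End k M)ˣ) := {B | ∃ g ∈ KK G, B = g ⋆ RG G α} with hWd
  have hcm : ∀ X ∈ W, ∀ Y ∈ W, Cm X Y := by
    rintro _ ⟨g, hg, rfl⟩ _ ⟨h, hh, rfl⟩
    rw [← cm_conj_iff (g := h⁻¹), conj_conj, conj_conj, inv_mul_cancel, conj_one]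
    exact ((mul_mem (inv_mem hh) hg).2 _ hA _ hA).1 cm_RG_self
  have hu : ∀ X ∈ W, Uni k X := by
    rintro _ ⟨g, -, rfl⟩; exact uni_RG.conj g
  have hV : Uni k (⨆ X ∈ W, X) := uni_iSup (fun X hX a ha Y hY => by rwa [(hcm X hX Y hY).conj_eq ha])
    fun X hX Y hY => (hu X hX).sup (hu Y hY) fun v hv d hd => by rwa [← hcm X hX Y hY d hd v hv, mul_inv_cancel_right]
  have := hW (KK G ⊓ ⨆ X ∈ W, X) inf_le_left (hV.mono inf_le_right) fun g hg u hu =>
    ⟨KK_normal hg.1 hu.1, iSup_conj_mem (by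
      rintro _ ⟨h, hh, rfl⟩; exact ⟨g * h, mul_mem hg hh, conj_conj _ _ _⟩) hu.2⟩
  intro g hg a ha
  have h1 : g * a * g⁻¹ * a⁻¹ ∈ KK G ⊓ ⨆ X ∈ W, X := by
    refine ⟨?_, mul_mem (le_iSup_mem (S := W) ⟨g, hg, rfl⟩ ⟨a, ha, rfl⟩)
      (le_iSup_mem (S := W) ⟨1, one_mem _, (conj_one _).symm⟩ (inv_mem ha))⟩
    have := mul_mem hg (KK_normal (RG_le ha) (inv_mem hg))
    simpa [mul_assoc] using this
  rw [this, Subgroup.mem_bot] at h1
  rw [← mul_inv_eq_one, mul_inv_rev, ← mul_assoc, h1]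

theorem qs_comp (hA : A ∈ quadraticRootSubgroups G) : IsQuasisimple ↥(⨆ X ∈ comp (quadraticRootSubgroups G) A, X) := by
  have hL := lrs_roots hk hI
  refine Comp.qs_of_normal (fun e => ?_) (le_antisymm (Subgroup.commutator_le.2 fun a ha b hb => ?_)
    (iSup₂_le fun X hX => ?_)) fun N hle hN => ?_
  · obtain ⟨D, -, h⟩ := hL.hasP A hA
    exact r1_ne_bot h (le_bot_iff.1 (e ▸ le_iSup_mem (comp_self hA)))
  · exact mul_mem (mul_mem (mul_mem ha hb) (inv_mem ha)) (inv_mem hb)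
  · obtain ⟨D, hD, h⟩ := hL.hasP X hX.1
    have := sup_le (le_iSup_mem hX) (le_iSup_mem (comp_r1 hX hD h))
    exact (le_commutator_of_r1 hk hI hX.1 hD h).trans (Subgroup.commutator_mono this this)
  · by_cases hne : (⨆ X ∈ comp (quadraticRootSubgroups G) A, X) ≤ N
    · exact Or.inl (le_antisymm hle hne)
    have key := fun {n} (hn : n ∈ N) {B C} hB hC => hL.cm_conj_of_not_le (B := B) (C := C)
      (fun X hX Y hY h => le_commutator_of_r1 hk hI hX hY h) hle hN hne hn hB hC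
    have hG : N ≤ G := hle.trans (iSup₂_le fun X hX => roots_le hX.1)
    have : N ≤ KK G := fun n hn => ⟨hG hn, fun B hB C hC => ⟨key hn hB hC, fun h => by
      have := key (inv_mem hn) (roots_conj hB (hG hn)) hC h
      rwa [conj_conj, inv_mul_cancel, conj_one] at this⟩⟩
    exact Or.inr (cm_iff_le.1 ((cm_iSup_left fun X hX => (KK_cm hI hX.1).symm).symm.mono this le_rfl))

theorem finite_comps : {T | ∃ A ∈ quadraticRootSubgroups G, T = comp (quadraticRootSubgroups G) A}.Finite := by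
  have hL := lrs_roots hk hI
  set ι := {T | ∃ A ∈ quadraticRootSubgroups G, T = comp (quadraticRootSubgroups G) A}
  have : ∀ T : ι, ∃ α β, Qd G α ∧ Qd G β ∧ Trip α β ∧ T.1 = comp (quadraticRootSubgroups G) (RG G α) := by
    rintro ⟨_, A, hA, rfl⟩
    obtain ⟨α, hα, rfl⟩ := mem_roots_iff.1 hA
    obtain ⟨β, hβ, ht⟩ := exists_trip' hk hI hα
    exact ⟨α, β, hα, hβ, ht, rfl⟩
  choose a b ha hb ht e using this
  have hli : LinearIndependent k a := by
    rw [linearIndependent_iff']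
    intro s g hs j hj
    have h1 := congrArg (fun x => x * b j - b j * x) hs
    simp only [Finset.sum_mul, Finset.mul_sum, smul_mul_assoc, mul_smul_comm, ← Finset.sum_sub_distrib, ← smul_sub,
      zero_mul, mul_zero, sub_zero] at h1
    rw [Finset.sum_eq_single j (fun i _ hij => ?_) (fun h => absurd hj h), smul_eq_zero] at h1
    · refine h1.resolve_right fun h => (ha j).ne ?_
      rw [← (ht j).aba, sub_eq_zero.1 h, mul_assoc, (ht j).aa, mul_zero]
    · have h2 : RG G (b j) ∈ comp (quadraticRootSubgroups G) (RG G (a j)) :=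
        comp_r1 (comp_self (ha j).root) (hb j).root (r1_of_opp hk (ha j) (hb j) (by rw [(ht j).aba]; exact (ha j).ne))
      have h3 := hL.cm_of_not_mem (comp_self (ha i).root) (hb j).root fun hn =>
        hij (Subtype.ext (by rw [e i, e j, ← comp_eq hn, comp_eq h2]))
      rw [cm_RG_iff.1 h3 _ (ha i).toQ0.mem_RS _ (hb j).toQ0.mem_RS, sub_self, smul_zero]
  exact hli.finite

theorem exists_parts : ∃ (r : ℕ) (rep : Fin r → Subgroup (End k M)ˣ), (∀ i, rep i ∈ quadraticRootSubgroups G) ∧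
    (∀ i j, i ≠ j → comp (quadraticRootSubgroups G) (rep i) ≠ comp (quadraticRootSubgroups G) (rep j)) ∧
    ∀ A ∈ quadraticRootSubgroups G, ∃ i, A ∈ comp (quadraticRootSubgroups G) (rep i) := by
  have := (finite_comps hk hI).to_subtype
  obtain ⟨r, ⟨e⟩⟩ := Finite.exists_equiv_fin {T | ∃ A ∈ quadraticRootSubgroups G, T = comp (quadraticRootSubgroups G) A}
  choose rep h1 h2 using fun i => (e.symm i).2
  refine ⟨r, rep, h1, fun i j hij h => hij (e.symm.injective (Subtype.ext (by rw [h2, h2, h]))), fun A hA => ?_⟩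
  refine ⟨e ⟨_, A, hA, rfl⟩, ?_⟩
  rw [← h2, e.symm_apply_apply]
  exact comp_self hA

end Cfsg.Lib.QuadPair
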