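import Cfsg.Agent.Lib.QuadPair.Comp

/-! Decomposition of a quadratic pair into a central product of quasisimple groups. -/

set_option autoImplicit false

namespace Cfsg.Lib.QuadPair
open Cfsg.Lib.Transfer Cfsg.Lib.Root Module LinearMap Polynomial
open scoped Cfsg.Lib.Transfer commutatorElement MatrixGroups

variable {k : Type*} [Field k] {M : Type*} [AddCommGroup M] [Module k M]
variable {G : Subgroup (End k M)ˣ} {α β δ ρ π ξ η x y : End k M} {A B : Subgroup (End k M)ˣ}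

variable (G) in
/-- endomorphisms in nilpotent position to all quadratic elements of minimal rank. -/
def JJ : Submodule k (End k M) where
  carrier := {ξ | ∀ α, Qd G α → α * ξ * α = 0}
  zero_mem' := by simp
  add_mem' {ξ η} h h' α hα := by rw [mul_add, add_mul, h α hα, h' α hα, add_zero]
  smul_mem' c ξ h α hα := by rw [mul_smul_comm, smul_mul_assoc, h α hα, smul_zero]

lemma exists_qd (h : Q0 G β) (h0 : β ≠ 0) : ∃ α, Qd G α := by
  classical
  have hex : ∃ n, ∃ α, Q0 G α ∧ α ≠ 0 ∧ rk α = n := ⟨_, β, h, h0, rfl⟩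
  obtain ⟨α, h1, h2, h3⟩ := Nat.find_spec hex
  exact ⟨α, h1, h2, fun η hη h4 => h3 ▸ Nat.find_min' hex ⟨η, hη, h4, rfl⟩⟩

lemma eq_un_mul {g : (End k M)ˣ} (h1 : ξ * ξ = 0) (h2 : η * η = 0) (h : ξ * η = 0) (e : (g : End k M) - 1 = ξ + η) :
    g = un h1 * un h2 := by
  apply Units.ext
  rw [sub_eq_iff_eq_add'.1 e, Units.val_mul, un_val, un_val, add_mul, mul_add, mul_add, h]
  simp only [mul_one, one_mul, add_zero]
  abel

variable [FiniteDimensional k M]

lemma JJ_cj (h : ξ ∈ JJ G) {g : (End k M)ˣ} (hg : g ∈ G) : cj g ξ ∈ JJ G := fun α hα => by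
  rw [← cj_cj_inv g α, ← cj_mul, ← cj_mul, h _ (hα.conj (inv_mem hg)), cj_zero]

lemma split_q0 (hk : Big k) (h : Q0 G ρ) (hJ : ρ ∉ JJ G) :
    ∃ ξ η, Qd G ξ ∧ Q0 G η ∧ ξ * η = 0 ∧ ρ = ξ + η ∧ rk η < rk ρ := by
  obtain ⟨α, hα⟩ := not_forall.1 hJ
  obtain ⟨hα, h0⟩ := Classical.not_imp.1 hα
  obtain ⟨r, hr⟩ := exists_inv_poly hk hα h h0
  have c1 := comm_aeval hα.sq ρ r
  have m1 := h.key hk hα.toQ0 (X * r)
  have m2 := h.key hk hα.toQ0 (1 - X * r)
  rw [map_mul, aeval_X, ← mul_assoc, mul_gam h.sq, add_comm] at m1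
  rw [map_sub, map_one, mul_sub, mul_one, map_mul, aeval_X, ← mul_assoc, mul_gam h.sq, add_comm] at m2
  set s := aeval (α * ρ + ρ * α) r
  have e : ρ * α * ρ * s * α = ρ * α := by
    rw [mul_assoc, ← c1.eq, ← mul_assoc, mul_assoc ρ α, mul_assoc ρ, mul_assoc ρ, hr]
  refine ⟨_, _, hα.of_rk_le m1.1 (fun z => h0 ?_) ?_, m2.1, RS_mul m1 m2, by abel, ?_⟩
  · rw [mul_assoc, ← e, z, zero_mul, mul_zero]
  · rw [mul_assoc, mul_assoc]
    exact (rk_mul_le_right _ _).trans (rk_mono (range_mul_le _ _))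
  · have hlt : ker ρ < ker (ρ - ρ * α * ρ * s) := by
      refine lt_of_le_of_ne (RS_ker m2) fun z => h0 ?_
      have : (ρ - ρ * α * ρ * s) * α = 0 := by rw [sub_mul, e, sub_self]
      rw [mul_eq_zero_iff, ← z, ← mul_eq_zero_iff] at this
      rw [mul_assoc, this, mul_zero]
    have := Submodule.finrank_lt_finrank_of_lt hlt
    have h1 := finrank_range_add_finrank_ker ρ
    have h2 := finrank_range_add_finrank_ker (ρ - ρ * α * ρ * s)
    unfold rk
    omega

variable (hk : Big k) (hI : HypI G)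
include hk hI

lemma not_mem_JJ (hα : Qd G α) : α ∉ JJ G := fun h => by
  obtain ⟨β, hβ, h1⟩ := exists_opp hk hI hα
  exact opp_symm hk hα hβ h1 (h β hβ)

lemma comm_of_JJ (h : Q0 G π) (hJ : π ∈ JJ G) (hα : Qd G α) : α * π = π * α := by
  have h1 := hJ α hα
  have z : ∀ ξ, Q0 G ξ → ξ ∈ JJ G → rk ξ ≤ rk α → ξ = 0 := fun ξ a b c => by
    by_contra hne
    exact not_mem_JJ hk hI (hα.of_rk_le a hne c) b
  have h2 : α * π - π * α ∈ JJ G := by
    have := sub_mem (JJ_cj hJ hα.toQ0.un_mem) hJ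
    rw [cj_of_eq (α := α) (by simp) hα.sq, h1] at this
    convert this using 1; abel
  have h3 : π * α * π = 0 := by
    have m := h.key hk hα.toQ0 X
    rw [aeval_X, mul_gam h.sq] at m
    refine z _ m.1 ?_ ((rk_mono (range_mul_le _ _)).trans (rk_mul_le_right _ _))
    have := (JJ G).smul_mem (2 : k)⁻¹ (sub_mem (JJ_cj h2 h.un_mem) h2)
    rw [cj_of_eq (α := π) (by simp) h.sq] at this
    convert this using 1
    have a1 : ∀ x, π * (π * x) = 0 := fun x => by rw [← mul_assoc, h.sq, zero_mul]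
    rw [eq_inv_smul_iff₀ hk.two, two_smul]
    simp only [mul_sub, sub_mul, mul_assoc, a1, h.sq, mul_zero, zero_mul]
    abel
  exact sub_eq_zero.1 (z _ (hα.toQ0.comm h h1 h3) h2 ((rk_sub_le _ _).trans (by rw [add_comm]; exact rk_comm_le h3)))

omit hk hI in
variable (G) in
/-- the subgroup generated by the quadratic elements in `JJ`. -/
def CJ : Subgroup (End k M)ˣ := Subgroup.closure {g | Q0 G ((g : End k M) - 1) ∧ (g : End k M) - 1 ∈ JJ G}

omit hk hI [FiniteDimensional k M] in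
lemma CJ_le : CJ G ≤ G := (Subgroup.closure_le _).2 fun _ hg => hg.1.mem_of_eq rfl

lemma cm_CJ : Cm (⨆ A ∈ quadraticRootSubgroups G, A) (CJ G) := by
  refine cm_iSup_left fun A hA => (cm_iff_le.2 ((Subgroup.closure_le _).2 fun g hg a ha => ?_)).symm
  obtain ⟨α, hα, rfl⟩ := mem_roots_iff.1 hA
  by_cases h1 : a = 1
  · simp [h1]
  · exact comm_of_comm (comm_of_JJ hk hI hg.1 hg.2 (hα.of_mem ha (sub_one_ne h1)))

omit hI in
lemma mem_sup_CJ {g : (End k M)ˣ} (h : Q0 G ((g : End k M) - 1)) : g ∈ (⨆ A ∈ quadraticRootSubgroups G, A) ⊔ CJ G := by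
  generalize hn : rk ((g : End k M) - 1) = n
  induction n using Nat.strong_induction_on generalizing g with
  | _ n ih =>
  by_cases hJ : (g : End k M) - 1 ∈ JJ G
  · exact Subgroup.mem_sup_right (Subgroup.subset_closure ⟨h, hJ⟩)
  obtain ⟨ξ, η, h1, h2, h3, h4, h5⟩ := split_q0 hk h hJ
  rw [eq_un_mul h1.sq h2.sq h3 h4]
  exact mul_mem (Subgroup.mem_sup_left (le_iSup_mem h1.root (un_mem_RG h1.toQ0.mem_RS)))
    (ih _ (hn ▸ h5) (by simpa using h2) (by simp))

omit hI in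
lemma sup_CJ (hG : Subgroup.closure (quadraticElements G) = G) : (⨆ A ∈ quadraticRootSubgroups G, A) ⊔ CJ G = G := by
  refine le_antisymm (sup_le (iSup₂_le fun A hA => roots_le hA) CJ_le) ?_
  conv_lhs => rw [← hG]
  exact (Subgroup.closure_le _).2 fun g hg => mem_sup_CJ hk (mem_quad_iff.1 hg).1

omit hk hI [FiniteDimensional k M] in
lemma q0_CJ (h : Q0 G π) (hJ : π ∈ JJ G) : Q0 (CJ G) π :=
  ⟨h.sq, fun c => ⟨un (h.smul c).sq, Subgroup.subset_closure ⟨by simpa using h.smul c, by simpa using (JJ G).smul_mem c hJ⟩, rfl⟩⟩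

lemma hypI_CJ (hG : Subgroup.closure (quadraticElements G) = G) : HypI (CJ G) := by
  intro N hle hn
  refine hI N (hle.trans CJ_le) fun g hg n hn' => ?_
  have : (⨆ A ∈ quadraticRootSubgroups G, A) ⊔ CJ G ≤ Subgroup.normalizer (N : Set (End k M)ˣ) := by
    refine sup_le ((cm_CJ hk hI).mono le_rfl hle).le_normalizer fun x hx => Subgroup.mem_normalizer_iff.2 fun y => ?_
    exact ⟨hn x hx y, fun h => by simpa [mul_assoc] using hn x⁻¹ (inv_mem hx) _ h⟩
  rw [sup_CJ hk hG] at this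
  exact (Subgroup.mem_normalizer_iff.1 (this hg) n).1 hn'

omit hk hI [FiniteDimensional k M] in
lemma closure_quad_CJ : Subgroup.closure (quadraticElements (CJ G)) = CJ G := by
  refine le_antisymm ((Subgroup.closure_le _).2 fun g hg => hg.1) ((Subgroup.closure_le _).2 fun g hg => ?_)
  by_cases h1 : g = 1
  · rw [h1]; exact one_mem _
  · exact Subgroup.subset_closure (mem_quad_iff.2 ⟨q0_CJ hg.1 hg.2, sub_one_ne h1⟩)

omit hk hI [FiniteDimensional k M] in
lemma le_normalizer_of_cm {Γ ι : Type*} [Group Γ] {H : ι → Subgroup Γ} (h : ∀ i j, i ≠ j → Cm (H i) (H j)) (i : ι) :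
    (⨆ j, H j) ≤ Subgroup.normalizer (H i : Set Γ) := iSup_le fun j => by
  by_cases e : j = i
  · rw [e]; exact Subgroup.le_normalizer
  · exact (h j i e).le_normalizer

omit hk [FiniteDimensional k M] in
lemma eq_of_mul_eq_zero {ι : Type*} {H : ι → Subgroup (End k M)ˣ} (h : ∀ i j, i ≠ j → Cm (H i) (H j)) (hs : (⨆ i, H i) = G)
    {i j : ι} {a b : (End k M)ˣ} (ha : a ∈ H i) (hb : b ∈ H j) (ha1 : a ≠ 1) (hb1 : b ≠ 1)
    (e : ((a : End k M) - 1) * ((b : End k M) - 1) = 0) : i = j := by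
  by_contra hij
  have hle : H i ≤ G := hs ▸ le_iSup H i
  have := hI (H i ⊓ fixSub (range ((b : End k M) - 1))) (inf_le_left.trans hle) ?_ ?_
  · exact ha1 (Subgroup.mem_bot.1 (this ▸ ⟨ha, mul_eq_zero_iff.1 e⟩))
  · have key : (⨆ i, H i) ≤ Subgroup.normalizer ((H i ⊓ fixSub (range ((b : End k M) - 1)) : Subgroup _) : Set (End k M)ˣ) := by
      refine iSup_le fun l => ?_
      by_cases e : l = i
      · subst e
        have : ∀ x ∈ H l, ∀ y ∈ H l ⊓ fixSub (range ((b : End k M) - 1)),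
            x * y * x⁻¹ ∈ H l ⊓ fixSub (range ((b : End k M) - 1)) := by
          intro x hx y hy
          refine ⟨(H l).mul_mem ((H l).mul_mem hx hy.1) ((H l).inv_mem hx), mul_eq_zero_iff.1 ?_⟩
          have h1 : cj x ((b : End k M) - 1) = (b : End k M) - 1 := by
            rw [cj_sub_one, h l j hij x hx b hb, mul_inv_cancel_right]
          rw [← cj_sub_one, ← h1, ← cj_mul, mul_eq_zero_iff.2 hy.2, cj_zero]
        intro x hx
        exact Subgroup.mem_normalizer_iff.2 fun y =>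
          ⟨this x hx y, fun h => by simpa [mul_assoc] using this x⁻¹ (inv_mem hx) _ h⟩
      · exact ((h l i e).mono le_rfl inf_le_left).le_normalizer
    rw [hs] at key
    exact fun g hg n hn => (Subgroup.mem_normalizer_iff.1 (key hg) n).1 hn
  · intro e
    have : range ((b : End k M) - 1) ≤ fixedSubmodule (H i ⊓ fixSub (range ((b : End k M) - 1))) :=
      le_fixed_iff.2 inf_le_right
    rw [e, le_bot_iff, range_eq_bot] at this
    exact sub_one_ne hb1 this

omit hI in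
theorem decomp (n : ℕ) : ∀ G : Subgroup (End k M)ˣ, HypI G → Subgroup.closure (quadraticElements G) = G →
    finrank k (Submodule.span k {ρ | Q0 G ρ}) = n → ∃ (ι : Type) (_ : Finite ι) (H : ι → Subgroup (End k M)ˣ),
      (∀ i j, i ≠ j → Cm (H i) (H j)) ∧ (⨆ i, H i) = G ∧
      (∀ i, IsQuasisimple ↥(H i) ∧ Subgroup.closure (quadraticElements G ∩ (H i : Set (End k M)ˣ)) = H i) ∧
      ∀ g ∈ quadraticElements G, ∃ i, g ∈ H i := by
  induction n using Nat.strong_induction_on with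
  | _ n ih =>
  intro G hI hG hn
  by_cases hex : ∃ α, Qd G α
  swap
  · have : quadraticElements G = ∅ := Set.eq_empty_of_forall_notMem fun g hg =>
      hex (exists_qd (mem_quad_iff.1 hg).1 (mem_quad_iff.1 hg).2)
    refine ⟨Empty, inferInstance, fun e => e.elim, fun e => e.elim, ?_, fun e => e.elim, by simp [this]⟩
    rw [← hG, this]; simp
  obtain ⟨α, hα⟩ := hex
  have hL := lrs_roots hk hI
  obtain ⟨ι, _, H, a1, a2, a3, a4⟩ := ih _ (by
    rw [← hn]
    refine Submodule.finrank_lt_finrank_of_lt (lt_of_le_of_ne (Submodule.span_mono fun ρ hρ => Q0.mono hρ CJ_le) fun e => ?_)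
    obtain ⟨β, hβ, ht⟩ := exists_trip' hk hI hα
    have h1 : α ∈ Submodule.span k {ρ | Q0 (CJ G) ρ} := e ▸ Submodule.subset_span hα.toQ0
    have h2 : α * β = β * α := by
      refine Submodule.span_induction (p := fun x _ => x * β = β * x) (fun ρ hρ => ?_) (by simp)
        (fun x y _ _ hx hy => by rw [add_mul, mul_add, hx, hy]) (fun c x _ hx => by simp [hx]) h1
      simpa using comm_iff.1 (cm_CJ hk hI _ (le_iSup_mem hβ.root (un_mem_RG hβ.toQ0.mem_RS)) _ (Q0.un_mem hρ)).symm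
    exact hα.ne (by rw [← ht.aba, h2, mul_assoc, ht.aa, mul_zero])) (CJ G) (hypI_CJ hk hI hG) closure_quad_CJ rfl
  obtain ⟨r, rep, b1, b2, b3⟩ := exists_parts hk hI
  let H' : Fin r ⊕ ι → Subgroup (End k M)ˣ := Sum.elim (fun i => ⨆ X ∈ comp (quadraticRootSubgroups G) (rep i), X) H
  have hH : ∀ j, H j ≤ CJ G := fun j => a2 ▸ le_iSup H j
  have c1 : ∀ i j, i ≠ j → Cm (H' i) (H' j) := by
    rintro (i | i) (j | j) hij
    · exact hL.cm_comp (b2 i j fun e => hij (by rw [e]))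
    · exact (cm_CJ hk hI).mono comp_le (hH j)
    · exact ((cm_CJ hk hI).mono comp_le (hH i)).symm
    · exact a1 i j fun e => hij (by rw [e])
  have c2 : (⨆ i, H' i) = G := by
    rw [iSup_sum, ← sup_CJ hk hG, ← a2]
    congr 1
    refine le_antisymm (iSup_le fun i => comp_le) (iSup₂_le fun A hA => ?_)
    obtain ⟨i, hi⟩ := b3 A hA
    exact le_iSup_of_le i (le_iSup_mem hi)
  have hq : quadraticElements (CJ G) ⊆ quadraticElements G := fun g hg =>
    mem_quad_iff.2 ⟨(mem_quad_iff.1 hg).1.mono CJ_le, (mem_quad_iff.1 hg).2⟩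
  refine ⟨Fin r ⊕ ι, inferInstance, H', c1, c2, ?_, fun g hg => ?_⟩
  · rintro (i | i)
    · refine ⟨qs_comp hk hI (b1 i), le_antisymm ((Subgroup.closure_le _).2 Set.inter_subset_right)
        (iSup₂_le fun X hX a ha => ?_)⟩
      by_cases h1 : a = 1
      · rw [h1]; exact one_mem _
      obtain ⟨β, hβ, rfl⟩ := mem_roots_iff.1 hX.1
      exact Subgroup.subset_closure ⟨mem_quad_iff.2 ⟨RS_q0 ha, sub_one_ne h1⟩, le_iSup_mem hX ha⟩
    · refine ⟨(a3 i).1, le_antisymm ((Subgroup.closure_le _).2 Set.inter_subset_right) ?_⟩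
      exact (a3 i).2.ge.trans (Subgroup.closure_mono (Set.inter_subset_inter_left _ hq))
  · obtain ⟨h, h0⟩ := mem_quad_iff.1 hg
    clear hg
    generalize hm : rk ((g : End k M) - 1) = m
    induction m using Nat.strong_induction_on generalizing g with
    | _ m ihm =>
    by_cases hJ : (g : End k M) - 1 ∈ JJ G
    · obtain ⟨i, hi⟩ := a4 g (mem_quad_iff.2 ⟨q0_CJ h hJ, h0⟩)
      exact ⟨Sum.inr i, hi⟩
    obtain ⟨ξ, η, h1, h2, h3, h4, h5⟩ := split_q0 hk h hJ
    obtain ⟨i, hi⟩ := b3 _ h1.root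
    have d1 : un h1.sq ∈ H' (Sum.inl i) := le_iSup_mem hi (un_mem_RG h1.toQ0.mem_RS)
    rw [eq_un_mul h1.sq h2.sq h3 h4]
    by_cases hη : η = 0
    · exact ⟨Sum.inl i, mul_mem d1 (by rw [show un h2.sq = 1 from Units.ext (by simp [hη])]; exact one_mem _)⟩
    obtain ⟨j, hj⟩ := ihm _ (hm ▸ h5) (un h2.sq) (by simpa using h2) (by simpa using hη) (by simp)
    have := eq_of_mul_eq_zero hI c1 c2 d1 hj (un_ne_one _ h1.ne) (un_ne_one _ hη) (by simpa using h3)
    exact ⟨j, mul_mem (this ▸ d1) hj⟩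

end Cfsg.Lib.QuadPair
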